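import Groth.Agent.NFDim6.Basic
import Groth.Agent.S5765

/-!
# The dimension formula along a normally flat ideal
-/

set_option autoImplicit false
set_option linter.style.haveILetI false
set_option backward.isDefEq.respectTransparency false
set_option backward.isDefEq.respectTransparency.types false

universe u

open Groth.Agent.HSLib Groth.Agent.GrLib8.Samuel

namespace Groth.Agent.NFDim6

variable {A : Type u} [CommRing A] [IsNoetherianRing A] [IsLocalRing A] {I : Ideal A}
  {M : Type u} [AddCommGroup M] [Module A M] [Module.Finite A M]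

/-- A top-dimensional minimal prime over an ideal. -/
theorem exists_top (hI : I ≤ IsLocalRing.maximalIdeal A) :
    ∃ (s : ℕ) (p : Ideal A), p ∈ I.minimalPrimes ∧ ringKrullDim (A ⧸ I) = s ∧ ringKrullDim (A ⧸ p) = s := by
  haveI : Nontrivial (A ⧸ I) := Ideal.Quotient.nontrivial_iff.2 fun h =>
    (IsLocalRing.maximalIdeal.isMaximal A).ne_top (top_le_iff.1 (h ▸ hI))
  haveI : IsLocalRing (A ⧸ I) := IsLocalRing.of_surjective' (Ideal.Quotient.mk I) Ideal.Quotient.mk_surjective
  obtain ⟨s, hs⟩ := exists_dim_eq_nat (A ⧸ I) (A ⧸ I)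
  rw [Module.supportDim_self_eq_ringKrullDim] at hs
  obtain ⟨l, hl⟩ := Order.le_krullDim_iff.1 (show (s : WithBot ℕ∞) ≤ Order.krullDim (PrimeSpectrum (A ⧸ I)) from hs.ge)
  have hP : ringKrullDim ((A ⧸ I) ⧸ l.head.asIdeal) = s := by
    refine le_antisymm ((ringKrullDim_quotient_le _).trans hs.le) ?_
    rw [ringKrullDim_quotient]
    let l' : LTSeries (PrimeSpectrum.zeroLocus (R := A ⧸ I) l.head.asIdeal) :=
      { length := l.length
        toFun := fun i => ⟨l i, show l.head.asIdeal ≤ (l i).asIdeal from l.head_le i⟩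
        step := fun i => l.step i }
    have h1 := Order.LTSeries.length_le_krullDim l'
    refine le_trans ?_ h1
    show (s : WithBot ℕ∞) ≤ (l.length : ℕ)
    rw [hl]
  refine ⟨s, l.head.asIdeal.comap (Ideal.Quotient.mk I), ?_, hs, ?_⟩
  · rw [Ideal.minimalPrimes_eq_comap]
    exact ⟨_, mem_minimalPrimes_of_top hs l.head hP, rfl⟩
  · rw [← hP]
    exact ringKrullDim_eq_of_ringEquiv ((Ideal.quotientEquiv _ _ (RingEquiv.refl A) (by simp)).trans
      (DoubleQuot.quotQuotEquivQuotOfLE (I := I) (J := l.head.asIdeal.comap (Ideal.Quotient.mk I)) (fun a ha => by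
        rw [Ideal.mem_comap, Ideal.Quotient.eq_zero_iff_mem.2 ha]; exact zero_mem _)).symm |>.trans
      (Ideal.quotEquivOfEq (Ideal.map_comap_of_surjective _ Ideal.Quotient.mk_surjective _)))

/-- The data at a minimal prime. -/
theorem exists_data (hM : EGA4.IsNormallyFlat I M) [Nontrivial M] (p : Ideal A) [p.IsPrime] (hp : p ∈ I.minimalPrimes)
    (r : ℕ → ℕ) (hr : ∀ n, Nonempty (P A I M n ≃ₗ[A] (Fin (r n) → A ⧸ I))) :
    ∃ (d ℓ : ℕ) (k : ℕ), 0 < ℓ ∧ (⟨p, inferInstance⟩ : PrimeSpectrum A) ∈ Module.support A M ∧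
      Module.supportDim (Localization.AtPrime p) (LocalizedModule p.primeCompl M) = d ∧
      IsLocalRing.maximalIdeal (Localization.AtPrime p) ^ k ≤ I.map (algebraMap A (Localization.AtPrime p)) ∧
      I.map (algebraMap A (Localization.AtPrime p)) ≤ IsLocalRing.maximalIdeal (Localization.AtPrime p) ∧
      ∀ t, hs (I.map (algebraMap A (Localization.AtPrime p))) (LocalizedModule p.primeCompl M) t =
        (∑ n ∈ Finset.range t, r n) * ℓ := by
  let R := Localization.AtPrime p
  have hIm : I ≤ IsLocalRing.maximalIdeal A := hp.1.2.trans (IsLocalRing.le_maximalIdeal (Ideal.IsPrime.ne_top inferInstance))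
  haveI : IsNoetherianRing R := IsLocalization.isNoetherianRing p.primeCompl _ ‹_›
  have hsuppI : (⟨p, inferInstance⟩ : PrimeSpectrum A) ∈ Module.support A (A ⧸ I) := by
    rw [Module.support_eq_zeroLocus, Ideal.annihilator_quotient]
    exact hp.1.2
  haveI : Nontrivial (LocalizedModule p.primeCompl (A ⧸ I)) := hsuppI
  obtain ⟨e0⟩ := hr 0
  have hP0 : Nontrivial (P A I M 0) := Submodule.Quotient.nontrivial_iff.2 fun h => by
    have h1 := congrArg (Submodule.map (I ^ 0 • (⊤ : Submodule A M)).subtype) h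
    rw [Submodule.map_smul'', Submodule.map_top, Submodule.range_subtype, pow_zero, Ideal.one_eq_top,
      Submodule.top_smul] at h1
    exact Submodule.top_ne_ideal_smul_of_le_jacobson_annihilator (M := M)
      (hIm.trans (IsLocalRing.maximalIdeal_le_jacobson _)) h1.symm
  have hr0 : 0 < r 0 := by
    rcases Nat.eq_zero_or_pos (r 0) with h | h
    · haveI : IsEmpty (Fin (r 0)) := by rw [h]; infer_instance
      exact absurd e0.toEquiv.subsingleton (not_subsingleton _)
    · exact h
  have hsupp : (⟨p, inferInstance⟩ : PrimeSpectrum A) ∈ Module.support A M := by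
    have h1 : (⟨p, inferInstance⟩ : PrimeSpectrum A) ∈ Module.support A (Fin (r 0) → A ⧸ I) :=
      Module.support_subset_of_surjective (LinearMap.proj (⟨0, hr0⟩ : Fin (r 0)))
        (LinearMap.proj_surjective _) hsuppI
    rw [← e0.support_eq] at h1
    exact Module.support_subset_of_injective (I ^ 0 • (⊤ : Submodule A M)).subtype Subtype.val_injective
      (Module.support_subset_of_surjective (Submodule.mkQ _) (Submodule.mkQ_surjective _) h1)
  haveI : Nontrivial (LocalizedModule p.primeCompl M) := hsupp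
  haveI : Module.Finite R (LocalizedModule p.primeCompl M) :=
    Module.Finite.of_isLocalizedModule p.primeCompl (LocalizedModule.mkLinearMap p.primeCompl M)
  haveI : Module.Finite R (LocalizedModule p.primeCompl (A ⧸ I)) :=
    Module.Finite.of_isLocalizedModule p.primeCompl (LocalizedModule.mkLinearMap p.primeCompl (A ⧸ I))
  let IR := I.map (algebraMap A R)
  have hIR : IR ≤ IsLocalRing.maximalIdeal R := by
    rw [← IsLocalization.AtPrime.map_eq_maximalIdeal p R]
    exact Ideal.map_mono hp.1.2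
  have hrad : IsLocalRing.maximalIdeal R ≤ IR.radical := by
    rw [Ideal.radical_eq_sInf]
    refine le_sInf fun q hq => ?_
    haveI := hq.2
    have h1 : q.comap (algebraMap A R) ≤ p := by
      refine ((IsLocalization.AtPrime.orderIsoOfPrime R p) ⟨q, hq.2⟩).2.2
    have h2 : p ≤ q.comap (algebraMap A R) := hp.2 ⟨inferInstance, Ideal.map_le_iff_le_comap.1 hq.1⟩ h1
    rw [← IsLocalization.AtPrime.map_eq_maximalIdeal p R]
    exact Ideal.map_le_iff_le_comap.2 h2
  obtain ⟨k, hk⟩ := Ideal.exists_pow_le_of_le_radical_of_fg hrad (IsNoetherian.noetherian _)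
  obtain ⟨d, hd⟩ := exists_dim_eq_nat R (LocalizedModule p.primeCompl M)
  have hne : Module.length R (LocalizedModule p.primeCompl (A ⧸ I)) ≠ ⊤ := by
    have h1 := length_quot_ne_top (maxSupp_of_pow_le hk (LocalizedModule p.primeCompl (A ⧸ I))) (t := 1)
      (N := (⊥ : Submodule R (LocalizedModule p.primeCompl (A ⧸ I)))) ?_
    · rwa [(Submodule.quotEquivOfEqBot _ rfl).length_eq] at h1
    rw [pow_one, Submodule.smul_le]
    intro a ha z _
    induction ha using Submodule.span_induction with
    | mem a ha =>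
      obtain ⟨b, hb, rfl⟩ := ha
      induction z using LocalizedModule.induction_on with
      | h m s =>
        obtain ⟨m, rfl⟩ := Ideal.Quotient.mk_surjective m
        rw [Submodule.mem_bot, algebraMap_smul, LocalizedModule.smul'_mk, Algebra.smul_def,
          Ideal.Quotient.algebraMap_eq, Ideal.Quotient.eq_zero_iff_mem.2 hb, zero_mul, LocalizedModule.zero_mk]
    | zero => rw [zero_smul]; exact zero_mem _
    | add a b _ _ ha hb => rw [add_smul]; exact add_mem ha hb
    | smul c a _ ha => rw [smul_eq_mul, mul_smul]; exact Submodule.smul_mem _ c ha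
  obtain ⟨ℓ, hℓ⟩ := ENat.ne_top_iff_exists.1 hne
  refine ⟨d, ℓ, k, ?_, hsupp, hd, hk, hIR, fun t => ?_⟩
  · have h1 : 0 < Module.length R (LocalizedModule p.primeCompl (A ⧸ I)) := Module.length_pos
    rw [← hℓ] at h1
    exact_mod_cast h1
  · rw [hs, length_localized p r hr t, ← hℓ, ← Nat.cast_mul, ENat.toNat_natCast]

/-- The dimension formula. -/
theorem supportDim_eq (hM : EGA4.IsNormallyFlat I M) [Nontrivial M] (p : Ideal A) [p.IsPrime]
    (hp : p ∈ I.minimalPrimes) :
    Module.supportDim A M = ringKrullDim (A ⧸ I) +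
      Module.supportDim (Localization.AtPrime p) (LocalizedModule p.primeCompl M) := by
  classical
  have hI : I ≤ IsLocalRing.maximalIdeal A := hp.1.2.trans (IsLocalRing.le_maximalIdeal (Ideal.IsPrime.ne_top inferInstance))
  choose r hr using exists_free (M := M) hI hM
  obtain ⟨d, ℓ, k, hℓ, -, hd, hk, hk', hhs⟩ := exists_data hM p hp r hr
  haveI : IsNoetherianRing (Localization.AtPrime p) := IsLocalization.isNoetherianRing p.primeCompl _ ‹_›
  haveI : Module.Finite (Localization.AtPrime p) (LocalizedModule p.primeCompl M) :=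
    Module.Finite.of_isLocalizedModule p.primeCompl (LocalizedModule.mkLinearMap p.primeCompl M)
  obtain ⟨s, p₀, hp₀, hs, hs₀⟩ := exists_top hI
  haveI := hp₀.1.1
  haveI : IsNoetherianRing (Localization.AtPrime p₀) := IsLocalization.isNoetherianRing p₀.primeCompl _ ‹_›
  haveI : Module.Finite (Localization.AtPrime p₀) (LocalizedModule p₀.primeCompl M) :=
    Module.Finite.of_isLocalizedModule p₀.primeCompl (LocalizedModule.mkLinearMap p₀.primeCompl M)
  obtain ⟨d₀, ℓ₀, k₀, hℓ₀, hp₀M, hd₀, hk₀, hk₀', hhs₀⟩ := exists_data hM p₀ hp₀ r hr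
  have hdd : d ≤ d₀ := dim_le_of_hs_le _ hk hk' _ _ hk₀ hk₀' _ d d₀ hd hd₀ ℓ fun t => by
    rw [hhs, hhs₀, mul_comm ℓ]
    exact Nat.mul_le_mul_right ℓ (Nat.le_mul_of_pos_right _ hℓ₀)
  -- upper bound
  haveI : Nontrivial (A ⧸ I) := Ideal.Quotient.nontrivial_iff.2 fun h =>
    (IsLocalRing.maximalIdeal.isMaximal A).ne_top (top_le_iff.1 (h ▸ hI))
  haveI : IsLocalRing (A ⧸ I) := IsLocalRing.of_surjective' (Ideal.Quotient.mk I) Ideal.Quotient.mk_surjective
  obtain ⟨S, hS, hcard⟩ := Ideal.exists_finset_card_eq_height_of_isNoetherianRing (IsLocalRing.maximalIdeal (A ⧸ I))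
  have hcs : S.card = s := by
    have h1 : ((S.card : ℕ∞) : WithBot ℕ∞) = (s : ℕ∞) := by
      rw [hcard, IsLocalRing.maximalIdeal_height_eq_ringKrullDim, hs]
      rfl
    exact_mod_cast h1
  choose y hy using fun b : A ⧸ I => Ideal.Quotient.mk_surjective b
  let ys : List A := S.toList.map y
  let Y := Ideal.ofList ys
  let J := I ⊔ Y
  have hmap : J.map (Ideal.Quotient.mk I) = Ideal.span (S : Set (A ⧸ I)) := by
    rw [Ideal.map_sup, Ideal.map_quotient_self, bot_sup_eq, Ideal.map_ofList, Ideal.ofList]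
    congr 1
    ext a
    simp only [ys, List.map_map, List.mem_map, Finset.mem_toList, Function.comp_apply, hy, Set.mem_setOf_eq,
      exists_eq_right, Finset.mem_coe]
  have hJeq : J = (Ideal.span (S : Set (A ⧸ I))).comap (Ideal.Quotient.mk I) := by
    rw [← hmap, Ideal.comap_map_of_surjective' _ Ideal.Quotient.mk_surjective, Ideal.mk_ker, sup_eq_left.2 le_sup_left]
  have hJ' : J ≤ IsLocalRing.maximalIdeal A := by
    rw [hJeq]
    exact IsLocalRing.le_maximalIdeal (Ideal.comap_ne_top _ fun h =>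
      (IsLocalRing.maximalIdeal.isMaximal (A ⧸ I)).ne_top (top_le_iff.1 (h ▸ hS.1.2)))
  have hJrad : IsLocalRing.maximalIdeal A ≤ J.radical := by
    rw [Ideal.radical_eq_sInf]
    refine le_sInf fun q hq => ?_
    haveI := hq.2
    haveI : (q.map (Ideal.Quotient.mk I)).IsPrime :=
      Ideal.map_isPrime_of_surjective Ideal.Quotient.mk_surjective (by rw [Ideal.mk_ker]; exact le_sup_left.trans hq.1)
    have h1 : IsLocalRing.maximalIdeal (A ⧸ I) ≤ q.map (Ideal.Quotient.mk I) :=
      hS.2 ⟨inferInstance, hmap ▸ Ideal.map_mono hq.1⟩ (IsLocalRing.le_maximalIdeal (Ideal.IsPrime.ne_top inferInstance))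
    intro a ha
    have h2 : Ideal.Quotient.mk I a ∈ q.map (Ideal.Quotient.mk I) := h1 (by
      rw [← IsLocalRing.map_maximalIdeal_of_surjective (Ideal.Quotient.mk I) Ideal.Quotient.mk_surjective]
      exact Ideal.mem_map_of_mem _ ha)
    rw [← Ideal.mem_comap, Ideal.comap_map_of_surjective' _ Ideal.Quotient.mk_surjective, Ideal.mk_ker,
      sup_eq_left.2 (le_sup_left.trans hq.1)] at h2
    exact h2
  obtain ⟨n, hn⟩ := Ideal.exists_pow_le_of_le_radical_of_fg hJrad (IsNoetherian.noetherian _)
  let X := M ⧸ (Y • (⊤ : Submodule A M))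
  haveI : Nontrivial X := Submodule.Quotient.nontrivial_iff.2 fun h =>
    Submodule.top_ne_ideal_smul_of_le_jacobson_annihilator (M := M)
      ((le_sup_right.trans hJ').trans (IsLocalRing.maximalIdeal_le_jacobson _)) h.symm
  obtain ⟨dX, hdX⟩ := exists_dim_eq_nat A X
  have hcne : Module.length A (A ⧸ J) ≠ ⊤ :=
    length_quot_ne_top (maxSupp_of_pow_le hn A) (t := 1) (by rw [pow_one, smul_eq_mul, Ideal.mul_top])
  obtain ⟨c, hc⟩ := ENat.ne_top_iff_exists.1 hcne
  have hdXd : dX ≤ d := dim_le_of_hs_le J hn hJ' X _ hk hk' _ dX d hdX hd c fun t => by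
    have h2 := length_le Y r hr t (A := A) (I := I) (M := M)
    let f : M →ₗ[A] X ⧸ (J ^ t • (⊤ : Submodule A X)) := (Submodule.mkQ _).comp (Submodule.mkQ _)
    have hker : (I ^ t • (⊤ : Submodule A M)) ⊔ Y • ⊤ ≤ LinearMap.ker f := by
      refine sup_le (fun m hm => ?_) (fun m hm => ?_)
      · rw [LinearMap.mem_ker]
        refine (Submodule.Quotient.mk_eq_zero _).2 ?_
        have h3 := Submodule.mem_map_of_mem (f := Submodule.mkQ (Y • (⊤ : Submodule A M))) hm
        rw [Submodule.map_smul''] at h3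
        exact Submodule.smul_mono (Ideal.pow_right_mono le_sup_left t) le_top h3
      · rw [LinearMap.mem_ker]
        show Submodule.Quotient.mk (Submodule.Quotient.mk m) = 0
        rw [(Submodule.Quotient.mk_eq_zero _).2 hm, Submodule.Quotient.mk_zero]
    have h3 : Module.length A (X ⧸ (J ^ t • (⊤ : Submodule A X))) ≤ ((∑ n ∈ Finset.range t, r n) * c : ℕ) := by
      refine (Module.length_le_of_surjective (Submodule.liftQ _ f hker) ?_).trans (h2.trans (le_of_eq ?_))
      · intro z
        obtain ⟨z, rfl⟩ := Submodule.Quotient.mk_surjective _ z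
        obtain ⟨m, rfl⟩ := Submodule.Quotient.mk_surjective _ z
        exact ⟨Submodule.Quotient.mk m, rfl⟩
      · rw [← hc, Nat.cast_mul]
    rw [hhs]
    calc HSLib.hs J X t ≤ (∑ n ∈ Finset.range t, r n) * c := by
          rw [HSLib.hs]
          exact ENat.toNat_le_of_le_coe h3
      _ ≤ c * ((∑ n ∈ Finset.range t, r n) * ℓ) := by
          rw [mul_comm _ c]
          exact Nat.mul_le_mul_left c (Nat.le_mul_of_pos_right _ hℓ)
  have hup : Module.supportDim A M ≤ (dX : WithBot ℕ∞) + (s : ℕ) := by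
    haveI : Finite (MaximalSpectrum A) := inferInstance
    have h4 := Jacob4.supportDim_le_add_length ys M fun a ha => by
      rw [IsLocalRing.ringJacobson_eq_maximalIdeal]
      exact hJ' (Submodule.mem_sup_right (Ideal.subset_span ha))
    rwa [show ys.length = s by rw [List.length_map, Finset.length_toList, hcs], hdX] at h4
  have hlow : (d₀ : WithBot ℕ∞) + (s : ℕ) ≤ Module.supportDim A M := by
    refine le_trans (le_of_eq ?_) (S5765.result A M p₀)
    rw [hd₀, ← hs₀]
    congr 1
    rw [Module.supportDim, Module.support_quotient, ringKrullDim_quotient,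
      Set.inter_eq_right.2 (show PrimeSpectrum.zeroLocus (p₀ : Set A) ⊆ Module.support A M from
        fun q hq => Module.mem_support_mono (show (⟨p₀, inferInstance⟩ : PrimeSpectrum A) ≤ q from hq) hp₀M)]
  obtain ⟨m, hm⟩ := exists_dim_eq_nat A M
  rw [hm] at hup hlow ⊢
  rw [hs, hd]
  norm_cast at hup hlow ⊢
  omega

end Groth.Agent.NFDim6
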