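import Groth.Prelude.Def_EGA4b
import Groth.Agent.GrLib8.Samuel.HilbertKunz
import Groth.Agent.KFlatLib.Ring.LocalFibre
import Groth.Agent.Jacob4.SemiDim

/-!
# Dimension of modules normally flat along an ideal
-/

set_option autoImplicit false
set_option linter.style.haveILetI false
set_option backward.isDefEq.respectTransparency false
set_option backward.isDefEq.respectTransparency.types false

universe u

open Filter Topology Groth.Agent.HSLib Groth.Agent.GrLib8.Samuel

namespace Groth.Agent.NFDim6

theorem exists_dim_eq_nat (A : Type u) [CommRing A] [IsNoetherianRing A] [IsLocalRing A] (M : Type u) [AddCommGroup M]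
    [Module A M] [Module.Finite A M] [Nontrivial M] : ∃ d : ℕ, Module.supportDim A M = d := by
  haveI : Finite (MaximalSpectrum A) := inferInstance
  exact Jacob4.exists_supportDim_eq M

/-- Growth of Hilbert–Samuel functions detects dimensions. -/
theorem dim_le_of_hs_le {A A' : Type u} [CommRing A] [IsNoetherianRing A] [IsLocalRing A] [CommRing A']
    [IsNoetherianRing A'] [IsLocalRing A'] (J : Ideal A) {n : ℕ} (hJ : IsLocalRing.maximalIdeal A ^ n ≤ J)
    (hJ' : J ≤ IsLocalRing.maximalIdeal A) (X : Type u) [AddCommGroup X] [Module A X] [Module.Finite A X]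
    (K : Ideal A') {n' : ℕ} (hK : IsLocalRing.maximalIdeal A' ^ n' ≤ K) (hK' : K ≤ IsLocalRing.maximalIdeal A')
    (Y : Type u) [AddCommGroup Y] [Module A' Y] [Module.Finite A' Y] (dX dY : ℕ)
    (hX : Module.supportDim A X = dX) (hY : Module.supportDim A' Y = dY) (C : ℕ)
    (h : ∀ t, hs J X t ≤ C * hs K Y t) : dX ≤ dY := by
  by_contra hlt
  push Not at hlt
  obtain ⟨L, hL, hlim⟩ := exists_lim_pos J hJ hJ' X dX hX
  obtain ⟨L', -, hlim'⟩ := exists_lim K hK hK' Y dY hY.le
  obtain ⟨e, he⟩ : ∃ e, dX = dY + (e + 1) := ⟨dX - dY - 1, by omega⟩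
  have h0 : Tendsto (fun t : ℕ => (C : ℝ) * ((hs K Y t : ℝ) / (t : ℝ) ^ dY) * (1 / (t : ℝ)) ^ (e + 1)) atTop (𝓝 0) := by
    simpa using (hlim'.const_mul (C : ℝ)).mul ((tendsto_one_div_atTop_nhds_zero_nat (𝕜 := ℝ)).pow (e + 1))
  have h1 : L ≤ 0 := by
    refine le_of_tendsto_of_tendsto hlim h0 (Eventually.of_forall fun t => ?_)
    show (hs J X t : ℝ) / (t : ℝ) ^ dX ≤ _
    have h2 : ((C : ℝ) * ((hs K Y t : ℝ) / (t : ℝ) ^ dY) * (1 / (t : ℝ)) ^ (e + 1)) =
        (C * hs K Y t : ℝ) / (t : ℝ) ^ dX := by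
      simp only [he, pow_add, div_eq_mul_inv, mul_inv, one_mul, inv_pow]
      ring
    beta_reduce
    rw [h2]
    exact div_le_div_of_nonneg_right (by exact_mod_cast h t) (by positivity)
  linarith

variable (A : Type u) [CommRing A] (I : Ideal A) (M : Type u) [AddCommGroup M] [Module A M]

/-- The graded pieces. -/
abbrev P (n : ℕ) : Type u :=
  ↥(I ^ n • (⊤ : Submodule A M)) ⧸ (I • (⊤ : Submodule A ↥(I ^ n • (⊤ : Submodule A M))))

variable {A I M} [IsNoetherianRing A] [IsLocalRing A] [Module.Finite A M]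

theorem exists_free (hI : I ≤ IsLocalRing.maximalIdeal A) (hM : EGA4.IsNormallyFlat I M) (n : ℕ) :
    ∃ r : ℕ, Nonempty (P A I M n ≃ₗ[A] (Fin r → A ⧸ I)) := by
  haveI : Nontrivial (A ⧸ I) := Ideal.Quotient.nontrivial_iff.2 fun h =>
    (IsLocalRing.maximalIdeal.isMaximal A).ne_top (top_le_iff.1 (h ▸ hI))
  haveI : IsLocalRing (A ⧸ I) := IsLocalRing.of_surjective' (Ideal.Quotient.mk I) Ideal.Quotient.mk_surjective
  haveI : Module.Flat (A ⧸ I) (P A I M n) := hM n
  haveI : Module.Finite (A ⧸ I) (P A I M n) := Module.Finite.of_restrictScalars_finite A (A ⧸ I) _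
  haveI : Module.Free (A ⧸ I) (P A I M n) := Module.free_of_flat_of_isLocalRing
  exact ⟨_, ⟨(Module.finBasis (A ⧸ I) (P A I M n)).equivFun.restrictScalars A⟩⟩

/-- The inclusion of a piece. -/
noncomputable def incl (n : ℕ) : P A I M n →ₗ[A] M ⧸ (I ^ (n + 1) • (⊤ : Submodule A M)) :=
  Submodule.mapQ _ _ (I ^ n • (⊤ : Submodule A M)).subtype (by
    rw [← Submodule.map_le_iff_le_comap, Submodule.map_smul'', Submodule.map_top, Submodule.range_subtype,
      ← Submodule.mul_smul, ← pow_succ'])

omit [IsNoetherianRing A] [IsLocalRing A] [Module.Finite A M] in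
theorem incl_injective (n : ℕ) : Function.Injective (incl (A := A) (I := I) (M := M) n) := by
  rw [← LinearMap.ker_eq_bot, incl, Submodule.ker_mapQ]
  rw [eq_bot_iff]
  rintro z ⟨⟨x, hx⟩, hxI, rfl⟩
  rw [Submodule.mem_bot, Submodule.mkQ_apply, Submodule.Quotient.mk_eq_zero]
  have h1 : x ∈ Submodule.map (I ^ n • (⊤ : Submodule A M)).subtype (I • ⊤) := by
    rw [Submodule.map_smul'', Submodule.map_top, Submodule.range_subtype, ← Submodule.mul_smul, ← pow_succ']
    exact hxI
  obtain ⟨w, hw, hwx⟩ := h1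
  exact (Subtype.ext hwx : w = ⟨x, hx⟩) ▸ hw

/-- The projection. -/
noncomputable def proj (n : ℕ) :
    (M ⧸ (I ^ (n + 1) • (⊤ : Submodule A M))) →ₗ[A] M ⧸ (I ^ n • (⊤ : Submodule A M)) :=
  Submodule.factor (Submodule.smul_mono (Ideal.pow_le_pow_right n.le_succ) le_rfl)

omit [IsNoetherianRing A] [IsLocalRing A] [Module.Finite A M] in
theorem exact_incl_proj (n : ℕ) : Function.Exact (incl (A := A) (I := I) (M := M) n) (proj n) := by
  intro z
  obtain ⟨x, rfl⟩ := Submodule.Quotient.mk_surjective _ z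
  refine ⟨fun h => ⟨Submodule.Quotient.mk ⟨x, ?_⟩, rfl⟩, ?_⟩
  · exact (Submodule.Quotient.mk_eq_zero _).1 h
  · rintro ⟨y, hy⟩
    obtain ⟨⟨y, hy'⟩, rfl⟩ := Submodule.Quotient.mk_surjective _ y
    rw [← hy]
    exact (Submodule.Quotient.mk_eq_zero _).2 hy'

/-- The local length at a prime. -/
theorem length_localized (p : Ideal A) [p.IsPrime] (r : ℕ → ℕ)
    (hr : ∀ n, Nonempty (P A I M n ≃ₗ[A] (Fin (r n) → A ⧸ I))) (t : ℕ) :
    Module.length (Localization.AtPrime p) (LocalizedModule p.primeCompl M ⧸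
        ((I.map (algebraMap A (Localization.AtPrime p))) ^ t •
          (⊤ : Submodule (Localization.AtPrime p) (LocalizedModule p.primeCompl M)))) =
      (∑ n ∈ Finset.range t, r n : ℕ) *
        Module.length (Localization.AtPrime p) (LocalizedModule p.primeCompl (A ⧸ I)) := by
  obtain ⟨e⟩ := KFlatLib.exists_localizedQuotSMul p.primeCompl (I ^ t) M
  rw [← Ideal.map_pow]
  refine (e.length_eq).symm.trans ?_
  clear e
  induction t with
  | zero =>
    haveI : Subsingleton (M ⧸ (I ^ 0 • (⊤ : Submodule A M))) := by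
      rw [Submodule.Quotient.subsingleton_iff, pow_zero, Ideal.one_eq_top, Submodule.top_smul]
    haveI : Subsingleton (LocalizedModule p.primeCompl (M ⧸ (I ^ 0 • (⊤ : Submodule A M)))) :=
      LocalizedModule.subsingleton_iff.2 fun m => ⟨1, p.primeCompl.one_mem, Subsingleton.elim _ _⟩
    rw [Module.length_eq_zero, Finset.sum_range_zero, Nat.cast_zero, zero_mul]
  | succ n ih =>
    rw [Module.length_eq_add_of_exact (LocalizedModule.map p.primeCompl (incl (A := A) (I := I) (M := M) n))
      (LocalizedModule.map p.primeCompl (proj n)) (LocalizedModule.map_injective _ _ (incl_injective n))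
      (LocalizedModule.map_surjective _ _ (Submodule.factor_surjective (Submodule.smul_mono (Ideal.pow_le_pow_right n.le_succ) le_rfl)))
      (LocalizedModule.map_exact _ _ _ (exact_incl_proj n)), ih]
    obtain ⟨e⟩ := hr n
    rw [length_loc_congr ⟨p, inferInstance⟩ e, length_loc_pi, Finset.sum_range_succ, Nat.cast_add, add_mul,
      add_comm]

omit [IsLocalRing A] [IsNoetherianRing A] [Module.Finite A M] in
/-- The length modulo a further ideal is bounded by the ranks. -/
theorem length_le (Y : Ideal A) (r : ℕ → ℕ)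
    (hr : ∀ n, Nonempty (P A I M n ≃ₗ[A] (Fin (r n) → A ⧸ I))) (t : ℕ) :
    Module.length A (M ⧸ ((I ^ t • (⊤ : Submodule A M)) ⊔ Y • ⊤)) ≤
      (∑ n ∈ Finset.range t, r n : ℕ) * Module.length A (A ⧸ (I ⊔ Y)) := by
  classical
  induction t with
  | zero =>
    haveI : Subsingleton (M ⧸ ((I ^ 0 • (⊤ : Submodule A M)) ⊔ Y • ⊤)) := by
      rw [Submodule.Quotient.subsingleton_iff, pow_zero, Ideal.one_eq_top, Submodule.top_smul, top_sup_eq]
    rw [Module.length_eq_zero]
    exact zero_le
  | succ n ih =>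
    let N : Submodule A M := (I ^ (n + 1) • ⊤) ⊔ Y • ⊤
    have hN : N ≤ (I ^ n • ⊤) ⊔ Y • ⊤ := sup_le_sup_right (Submodule.smul_mono (Ideal.pow_le_pow_right n.le_succ) le_rfl) _
    let π := Submodule.factor hN
    rw [Module.length_eq_add_of_exact (LinearMap.ker π).subtype π (Submodule.subtype_injective _)
      (Submodule.factor_surjective hN) (LinearMap.exact_subtype_ker_map π), Finset.sum_range_succ, Nat.cast_add, add_mul,
      add_comm]
    refine add_le_add ih ?_
    obtain ⟨e⟩ := hr n
    choose x hx using fun i => Submodule.Quotient.mk_surjective _ (e.symm (Pi.single i (1 : A ⧸ I)))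
    let g : (Fin (r n) → A) →ₗ[A] M ⧸ N := Fintype.linearCombination A fun i => Submodule.Quotient.mk (x i : M)
    have hgker : ∀ a : Fin (r n) → A, (∀ i, a i ∈ I ⊔ Y) → g a = 0 := by
      intro a ha
      rw [Fintype.linearCombination_apply]
      refine Finset.sum_eq_zero fun i _ => ?_
      rw [← Submodule.Quotient.mk_smul, Submodule.Quotient.mk_eq_zero]
      obtain ⟨b, hb, c, hc, hbc⟩ := Submodule.mem_sup.1 (ha i)
      rw [← hbc, add_smul]
      refine add_mem (Submodule.mem_sup_left ?_) (Submodule.mem_sup_right (Submodule.smul_mem_smul hc Submodule.mem_top))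
      rw [pow_succ', Submodule.mul_smul]
      exact Submodule.smul_mem_smul hb (x i).2
    let q : (Fin (r n) → A) →ₗ[A] (Fin (r n) → A ⧸ (I ⊔ Y)) :=
      LinearMap.pi fun i => (Submodule.mkQ _).comp (LinearMap.proj i)
    have hq : Function.Surjective q := fun y => ⟨fun i => (Submodule.mkQ_surjective _ (y i)).choose,
      funext fun i => (Submodule.mkQ_surjective _ (y i)).choose_spec⟩
    let gb := ((LinearMap.ker q).liftQ g fun a ha => hgker a fun i =>
      (Submodule.Quotient.mk_eq_zero _).1 (congrFun ha i)).comp (q.quotKerEquivOfSurjective hq).symm.toLinearMap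
    have hle : LinearMap.ker π ≤ LinearMap.range gb := by
      intro z hz
      obtain ⟨m, rfl⟩ := Submodule.Quotient.mk_surjective _ z
      obtain ⟨u, hu, v, hv, rfl⟩ := Submodule.mem_sup.1 ((Submodule.Quotient.mk_eq_zero _).1 hz)
      choose a ha using fun i => Ideal.Quotient.mk_surjective (e (Submodule.Quotient.mk ⟨u, hu⟩) i)
      have h1 : (Submodule.Quotient.mk ⟨u, hu⟩ : P A I M n) = Submodule.Quotient.mk (∑ i, a i • x i) := by
        apply e.injective
        rw [← Submodule.mkQ_apply _ (∑ i, a i • x i), map_sum, map_sum]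
        simp only [map_smul, Submodule.mkQ_apply, hx, LinearEquiv.apply_symm_apply]
        funext j
        rw [Finset.sum_apply, Finset.sum_eq_single j (fun i _ hij => by
          rw [Pi.smul_apply, Pi.single_eq_of_ne (Ne.symm hij), smul_zero]) (fun h => absurd (Finset.mem_univ j) h),
          Pi.smul_apply, Pi.single_eq_same, Algebra.smul_def, mul_one]
        exact (ha j).symm
      rw [Submodule.Quotient.eq] at h1
      have h2 : u - ∑ i, a i • (x i : M) ∈ I ^ (n + 1) • (⊤ : Submodule A M) := by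
        have h3 := Submodule.mem_map_of_mem (f := (I ^ n • (⊤ : Submodule A M)).subtype) h1
        rw [Submodule.map_smul'', Submodule.map_top, Submodule.range_subtype, ← Submodule.mul_smul, ← pow_succ'] at h3
        simpa using h3
      refine ⟨q a, ?_⟩
      simp only [gb, LinearMap.comp_apply, LinearEquiv.coe_coe, LinearMap.quotKerEquivOfSurjective_symm_apply,
        Submodule.liftQ_apply]
      rw [show g a = Submodule.Quotient.mk (∑ i, a i • (x i : M)) by
        rw [Fintype.linearCombination_apply, ← Submodule.mkQ_apply _ (∑ i, a i • (x i : M)), map_sum]; rfl,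
        Submodule.Quotient.eq]
      have h3 : (∑ i, a i • (x i : M)) - (u + v) = -(u - ∑ i, a i • (x i : M)) + -v := by abel
      rw [h3]
      exact add_mem (Submodule.mem_sup_left (neg_mem h2)) (Submodule.mem_sup_right (neg_mem hv))
    refine (Module.length_le_of_injective _ (Submodule.inclusion_injective hle)).trans
      ((Module.length_le_of_surjective _ gb.surjective_rangeRestrict).trans (le_of_eq ?_))
    rw [Module.length_pi_of_fintype, Finset.sum_const, Finset.card_univ, Fintype.card_fin, nsmul_eq_mul]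

end Groth.Agent.NFDim6
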