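import Groth.Agent.NFlatGen.Basic

/-!
# Normal flatness localises
-/

set_option backward.isDefEq.respectTransparency false
set_option backward.isDefEq.respectTransparency.types false
set_option linter.style.haveILetI false

universe u

open TensorProduct

namespace Groth.Agent.NFDim6

open Groth.Agent.NFlat6

/-- Normal flatness is inherited by localisations. -/
theorem isNormallyFlat_localized {A : Type u} [CommRing A] (p : Ideal A) (W : Submonoid A)
    (M : Type u) [AddCommGroup M] [Module A M] (h : EGA4.IsNormallyFlat p M) :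
    EGA4.IsNormallyFlat (p.map (algebraMap A (Localization W))) (LocalizedModule W M) := by
  intro k
  let Af := Localization W
  let J := p.map (algebraMap A Af)
  let M' := LocalizedModule W M
  let T := Af ⧸ J
  let N2 := Pc J M' k
  haveI hloc := isLocalizedModule_pcMap (R := p) W (LocalizedModule.mkLinearMap W M) k
  have hP : (Pw J M' k).restrictScalars A = Pw p M' k := by
    show ((J ^ k • ⊤ : Submodule Af M')).restrictScalars A = _
    rw [show J ^ k = (p ^ k).map (algebraMap A Af) from (Ideal.map_pow _ p k).symm,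
      Submodule.restrictScalars_map_smul_eq, Submodule.restrictScalars_top]
  have hP' : (Pw J M' (k + 1)).restrictScalars A = Pw p M' (k + 1) := by
    show ((J ^ (k + 1) • ⊤ : Submodule Af M')).restrictScalars A = _
    rw [show J ^ (k + 1) = (p ^ (k + 1)).map (algebraMap A Af) from (Ideal.map_pow _ p _).symm,
      Submodule.restrictScalars_map_smul_eq, Submodule.restrictScalars_top]
  letI : Module (A ⧸ p) N2 := Module.compHom N2 (algebraMap (A ⧸ p) T)
  haveI : IsScalarTower (A ⧸ p) T N2 := .of_algebraMap_smul fun _ _ => rfl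
  have hsm : ∀ (a : A) (x : N2), (Ideal.Quotient.mk p a) • x = a • x := fun a x => by
    obtain ⟨x, rfl⟩ := Submodule.Quotient.mk_surjective _ x
    show (algebraMap A Af a) • (Submodule.Quotient.mk x : N2) = _
    rw [IsScalarTower.algebraMap_smul]
  haveI : IsScalarTower A (A ⧸ p) N2 := .of_algebraMap_smul hsm
  let e0 : ↥(Pw p M' k) →ₗ[A] N2 :=
    { toFun := fun y => Submodule.Quotient.mk ⟨(y : M'), hP.ge y.2⟩
      map_add' := fun _ _ => rfl
      map_smul' := fun _ _ => rfl }
  let e1 : Pc p M' k →ₗ[A] N2 := Submodule.liftQ _ e0 fun y hy => by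
    rw [LinearMap.mem_ker]
    exact (pc_mk_eq_zero _).2 (hP'.ge ((mem_smul_top_iff_val y).1 hy))
  have he1 : Function.Bijective e1 := by
    refine ⟨(injective_iff_map_eq_zero e1).2 fun z hz => ?_, fun z => ?_⟩
    · obtain ⟨y, rfl⟩ := Submodule.Quotient.mk_surjective _ z
      exact (pc_mk_eq_zero _).2 (hP'.le ((pc_mk_eq_zero _).1 hz))
    · obtain ⟨⟨y, hy⟩, rfl⟩ := Submodule.Quotient.mk_surjective _ z
      exact ⟨Submodule.Quotient.mk ⟨y, hP.le hy⟩, rfl⟩
  let gA : Pc p M k →ₗ[A] N2 :=
    (LinearEquiv.ofBijective e1 he1).toLinearMap ∘ₗ pcMap (R := p) (LocalizedModule.mkLinearMap W M) k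
  haveI : IsLocalizedModule W gA := IsLocalizedModule.of_linearEquiv W _ _
  let g := gA.extendScalarsOfSurjective (S := A ⧸ p) Ideal.Quotient.mk_surjective
  let W' := Algebra.algebraMapSubmonoid (A ⧸ p) W
  haveI : IsLocalizedModule W' g := by
    refine ⟨fun w => ?_, fun z => ?_, fun {a b} h => ?_⟩
    · obtain ⟨_, w, hw, rfl⟩ := w
      have hu := IsLocalizedModule.map_units gA (⟨w, hw⟩ : W)
      rw [Module.End.isUnit_iff] at hu ⊢
      have : ⇑(algebraMap (A ⧸ p) (Module.End (A ⧸ p) N2) (algebraMap A (A ⧸ p) w)) =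
          ⇑(algebraMap A (Module.End A N2) w) := funext fun z => hsm w z
      rw [this]; exact hu
    · obtain ⟨⟨n, w⟩, hn⟩ := IsLocalizedModule.surj W gA z
      exact ⟨(n, ⟨_, w, w.2, rfl⟩), (hsm w z).trans hn⟩
    · obtain ⟨c, hc⟩ := IsLocalizedModule.exists_of_eq (S := W) (f := gA) h
      refine ⟨⟨_, c, c.2, rfl⟩, ?_⟩
      show (algebraMap A (A ⧸ p) c) • a = (algebraMap A (A ⧸ p) c) • b
      rw [IsScalarTower.algebraMap_smul, IsScalarTower.algebraMap_smul]
      exact hc
  haveI : Module.Flat (A ⧸ p) (Pc p M k) := h k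
  exact Module.Flat.of_linearEquiv (IsLocalizedModule.isBaseChange W' T g).equiv.symm

end Groth.Agent.NFDim6
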